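import Cfsg.Agent.H839.Rad.Base
import Cfsg.Agent.H959.Rad3.Iface
import Cfsg.Agent.BpSpor.Inn.Base

/-!
# Rows for elements of order three: a simple subgroup of index prime to three (helper112)

* `center_eq_bot` : the centre of a simple noncommutative group;
* `irow_of_emb` : `IRow K` if the automorphisms of odd prime order are inner and a nonsolvable simple group embeds in
  `K` with index prime to `3`.
-/

set_option autoImplicit false

namespace Cfsg.Agent.H112.Rad3

open Subgroup Cfsg Cfsg.Agent.H459.Rad Cfsg.Agent.H839.Rad Cfsg.Agent.H959.Rad3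

theorem center_eq_bot {K : Type*} [Group K] [IsSimpleGroup K] (hna : ∃ a b : K, a * b ≠ b * a) : center K = ⊥ := by
  rcases (inferInstance : (center K).Normal).eq_bot_or_eq_top with h | h
  · exact h
  · exfalso
    obtain ⟨a, b, hab⟩ := hna
    have h1 : b ∈ center K := h ▸ mem_top b
    exact hab (mem_center_iff.1 h1 a)

/-- a simple group whose order is not a prime is not solvable -/
theorem not_solvable {S : Type*} [Group S] [IsSimpleGroup S] {n : ℕ} (hc : Nat.card S = n) (hn : ¬ n.Prime)
    (h0 : n ≠ 0) : ¬ Group.IsSolvable S := by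
  intro hs
  have hfin : Finite S := Nat.finite_of_card_ne_zero (by rw [hc]; exact h0)
  let i : CommGroup S := { (inferInstance : Group S) with mul_comm := IsSimpleGroup.comm_iff_isSolvable.2 hs }
  exact hn (hc ▸ IsSimpleGroup.prime_card (α := S))

/-- **A simple subgroup of index prime to three.** -/
theorem irow_of_emb {K S : Type*} [Group K] [Finite K] [IsSimpleGroup K] [Group S] [IsSimpleGroup S] (f : S →* K)
    (hf : Function.Injective f) {n m : ℕ} (hS : Nat.card S = n) (hK : Nat.card K = n * m) (hm : m ≠ 1)
    (h3 : ¬ 3 ∣ m) (hns : ¬ Group.IsSolvable S) (hin : Cfsg.Agent.BpSpor.Inn.OddInn K) : IRow K := by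
  have hna : ∃ a b : K, a * b ≠ b * a := by
    by_contra hcon
    push Not at hcon
    exact hns (Group.isSolvable_of_comm fun a b => hf (by rw [map_mul, map_mul, hcon]))
  refine IRowInn.irow (center_eq_bot hna) (fun x hx => hin 3 Nat.prime_three (by norm_num) x hx) ?_
  intro a ha hR _
  have hfin : Finite S := Finite.of_injective f hf
  have hn : n ≠ 0 := by rw [← hS]; exact Nat.card_pos.ne'
  have hc : Nat.card f.range = n := by
    rw [← hS]
    exact (Nat.card_congr (MonoidHom.ofInjective hf).toEquiv).symm
  have hidx : f.range.index = m := by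
    have h1 := f.range.card_mul_index
    rw [hc, hK] at h1
    exact Nat.eq_of_mul_eq_mul_left (Nat.pos_of_ne_zero hn) h1
  have hne : f.range ≠ ⊤ := by
    intro h
    rw [h, index_top] at hidx
    exact hm hidx.symm
  refine false_of_sylow Nat.prime_three ha hR hne (by rw [hidx]; exact h3) ?_
  exact RadFree.congr Nat.prime_three (MonoidHom.ofInjective hf).symm (RadFree.of_simple (by norm_num) hns)

end Cfsg.Agent.H112.Rad3
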