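import Cfsg.Agent.H112.Rad3.Emb
import Cfsg.Agent.H45.Thin.Leech
import Cfsg.Agent.SporadicA.MathieuRecog
import Cfsg.Agent.BpSpor.Row.HS
import Cfsg.Agent.NotCT.Orders

/-!
# The row of `HS` for elements of order three (helper112)

`M22` embeds in `HS` with index `100`.
-/

set_option autoImplicit false

namespace Cfsg.Agent.H112.Rad3

open Subgroup Cfsg

theorem irow_hs {K : Type*} [Group K] [Finite K] [IsSimpleGroup K] (h : Cfsg.Spor.IsoHS K) :
    Cfsg.Agent.H959.Rad3.IRow K := by
  have hcard := NotCT.Orders.hs h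
  have hin := BpSpor.Inn.hs h
  obtain ⟨e⟩ := h
  have := SporadicA.MathieuRecog.simple_M22
  exact irow_of_emb (e.symm.toMonoidHom.comp H45.Thin.Leech.embH)
    (e.symm.injective.comp H45.Thin.Leech.embH_injective) (m := 100) SporadicA.MathieuRecog.card_M22
    (by rw [hcard]) (by norm_num) (by norm_num)
    (not_solvable SporadicA.MathieuRecog.card_M22 (by norm_num) (by norm_num)) hin

end Cfsg.Agent.H112.Rad3
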