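import Cfsg.Agent.H112.Rad3.Emb
import Cfsg.Agent.H811.SuzCov
import Cfsg.Agent.H812.FullSuz
import Cfsg.Agent.BpSpor.Inn.Suz

/-!
# The row of `Suz` for elements of order three (helper112)

The centralizer `C = C(y0) = 3.U₄(3)` has index `45760`, prime to `3`, and `C / ⟨y0⟩` is simple; so a radical element of
order three is conjugate to `y0`. The conjugate `y1` of `y0` commutes with `y0` and does not lie in `⟨y0⟩`.
-/

set_option autoImplicit false
set_option maxRecDepth 100000

namespace Cfsg.Agent.H112.Rad3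

open Subgroup Cfsg Cfsg.Agent.H459.Rad Cfsg.Agent.H839.Rad Cfsg.Agent.H959.Rad3

/-- conjugating an element of order `p` into a subgroup of index prime to `p` -/
theorem exists_conj_mem {K : Type*} [Group K] [Finite K] {p : ℕ} (hp : p.Prime) {x : K} (ho : orderOf x = p)
    {M : Subgroup K} (hi : ¬ p ∣ M.index) : ∃ g : K, g * x * g⁻¹ ∈ M := by
  have : Fact p.Prime := ⟨hp⟩
  obtain ⟨S⟩ : Nonempty (Sylow p M) := inferInstance
  have hS : IsPGroup p ↥((S : Subgroup M).map M.subtype) := S.isPGroup'.map _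
  have hc : ¬ p ∣ ((S : Subgroup M).map M.subtype).index := by
    rw [← relIndex_mul_index (map_subtype_le (S : Subgroup M)), hp.dvd_mul, not_or]
    refine ⟨?_, hi⟩
    have h1 : ((S : Subgroup M).map M.subtype).relIndex M = (S : Subgroup M).index := by
      rw [relIndex, subgroupOf, comap_map_eq_self_of_injective M.subtype_injective]
    rw [h1]
    exact S.not_dvd_index
  let P : Sylow p K := hS.toSylow hc
  have hx : IsPGroup p ↥(zpowers x) := IsPGroup.of_card (n := 1) (by rw [Nat.card_zpowers, ho, pow_one])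
  obtain ⟨P', hP'⟩ := hx.exists_le_sylow
  obtain ⟨g, hg⟩ := MulAction.exists_smul_eq K P' P
  refine ⟨g, ?_⟩
  have h1 : g * x * g⁻¹ ∈ (P : Subgroup K) := by
    rw [← hg, Sylow.coe_subgroup_smul]
    exact smul_mem_pointwise_smul x (MulAut.conj g) _ (hP' (mem_zpowers x))
  exact map_subtype_le (S : Subgroup M) h1

/-- **The centralizer of an element of order three with simple quotient, index prime to three, not weakly closed.** -/
theorem irowInn_of_cov {K : Type*} [Group K] [Finite K] {H : Type*} [Group H] [Finite H] [IsSimpleGroup H]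
    (hH : ¬ Group.IsSolvable H) {y : K} (hy : orderOf y = 3) (hy0 : y ∉ center K)
    (f : ↥(centralizer ({y} : Set K)) →* H) (hf : Function.Surjective f)
    (hk : ∀ c, f c = 1 → (c : K) ∈ zpowers y) (hi : ¬ 3 ∣ (centralizer ({y} : Set K)).index)
    (hinv : ∃ d : K, d * y * d⁻¹ = y⁻¹) {w : K} (hw : (w * y * w⁻¹) * y = y * (w * y * w⁻¹))
    (hw' : w * y * w⁻¹ ∉ zpowers y) : IRowInn K := by
  intro a ha hR _
  have hne : centralizer ({y} : Set K) ≠ ⊤ := by
    intro h1
    apply hy0
    rw [mem_center_iff]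
    intro g
    exact mem_centralizer_singleton_iff.1 (h1 ▸ mem_top g)
  -- radical elements commuting with `y`
  have key : ∀ b : K, RC (MulAut.conj b) → b * y = y * b → b ∈ zpowers y := by
    intro b hb hby
    have hbm : b ∈ centralizer ({y} : Set K) := mem_centralizer_singleton_iff.2 hby
    have h1 := mem_rad hb hne hbm
    have h2 : f ⟨b, hbm⟩ ∈ solvableRadical H := map_rad_le hf h1
    rw [rad_eq_bot_of_simple hH, mem_bot] at h2
    exact hk _ h2
  -- `a` is conjugate to `y`
  obtain ⟨g, hg⟩ := exists_conj_mem Nat.prime_three ha hi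
  have hgR := rc_conj hR g
  have h3 := key _ hgR (mem_centralizer_singleton_iff.1 hg)
  have hyR : RC (MulAut.conj y) := by
    have ho : orderOf (g * a * g⁻¹) = 3 := by rw [← MulAut.conj_apply, MulEquiv.orderOf_eq, ha]
    have hne1 : g * a * g⁻¹ ≠ 1 := by
      intro h
      rw [h, orderOf_one] at ho
      omega
    have hy3 : y ^ (3 : ℤ) = 1 := by
      have := pow_orderOf_eq_one y
      rw [hy] at this
      exact_mod_cast this
    obtain ⟨i, hi'⟩ := mem_zpowers_iff.1 h3
    have hmod : y ^ i = y ^ (i % 3) := by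
      conv_lhs => rw [← Int.emod_add_mul_ediv i 3]
      rw [zpow_add, zpow_mul, hy3, one_zpow, mul_one]
    rw [hmod] at hi'
    have hr : i % 3 = 0 ∨ i % 3 = 1 ∨ i % 3 = 2 := by omega
    rcases hr with hr | hr | hr
    · rw [hr, zpow_zero] at hi'
      exact (hne1 hi'.symm).elim
    · rw [hr, zpow_one] at hi'
      rw [← hi'] at hgR
      exact hgR
    · rw [hr] at hi'
      have h5 : y ^ (2 : ℤ) = y⁻¹ := by
        rw [eq_inv_iff_mul_eq_one, ← zpow_add_one]
        exact hy3
      rw [h5] at hi'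
      rw [← hi'] at hgR
      obtain ⟨d, hd⟩ := hinv
      have h6 := rc_conj hgR d
      have h7 : d * y⁻¹ * d⁻¹ = y := by
        have : d * y⁻¹ * d⁻¹ = (d * y * d⁻¹)⁻¹ := by group
        rw [this, hd, inv_inv]
      rwa [h7] at h6
  exact hw' (key _ (rc_conj hyR w) hw)

section Suz

open Cfsg.Spor (Suz)
open Cfsg.Agent.Lib.PermNet Cfsg.Agent.Lib.PermNetOrbit Cfsg.Agent.SporadicRecognition.SuzPhi Cfsg.Agent.SuzThree.Nets Cfsg.Agent.SuzThree.Basic
  Cfsg.Agent.SuzThree.Elts Cfsg.Agent.SuzThree.ThreeWr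

theorem chk : ∃ p < 200, mv [x0N] p p = true ∧ (appWord [y1N] (Nat.pow 2 p)).testBit p = false := by decide +kernel

theorem y1_not_mem : y1 ∉ zpowers y0 := by
  obtain ⟨p, -, h1, h2⟩ := chk
  intro h
  have h3 : φ y0 p = p := rep_y0.pt h1
  have h4 : φ y1 p ≠ p := by
    rw [rep_y1.eq]
    intro h5
    have h6 := testBit_appWord rep_y1.ok (2 ^ p) p
    rw [h5, Nat.testBit_two_pow_self] at h6
    change (appWord [y1N] (2 ^ p)).testBit p = false at h2
    rw [h2] at h6
    exact absurd h6 (by simp)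
  obtain ⟨i, hi⟩ := mem_zpowers_iff.1 h
  apply h4
  rw [← hi, map_zpow]
  have h5 : φ y0 ∈ MulAction.stabilizer (Equiv.Perm ℕ) p := h3
  exact (MulAction.stabilizer (Equiv.Perm ℕ) p).zpow_mem h5 i

theorem irowInn_suz : IRowInn Suz := by
  have hfin : Finite Spor.Suz := Nat.finite_of_card_ne_zero (by
    rw [Cfsg.Agent.SporadicRecognition.SuzOrder.card_Suz]; norm_num)
  have hcard := H812.FullSuz.fullP_H.2
  have hfin2 : Finite LThreeCo1Twelve.Gam.H := Nat.finite_of_card_ne_zero (by rw [hcard]; norm_num)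
  have hs := Cfsg.Agent.LThreeCo1Twelve.Gam.simple
  obtain ⟨g, hg, hk⟩ := Cfsg.Agent.H811.SuzCov.cov
  refine irowInn_of_cov (H := LThreeCo1Twelve.Gam.H) (y := y0) (w := w) (not_solvable hcard (by norm_num) (by norm_num))
    Cfsg.Agent.CpAutSuz.Local.orderOf_y0 ?_ g hg (fun c => (hk c).1) (by rw [H812.FullSuz.index_y0]; norm_num)
    ⟨_, Cfsg.Agent.H811.SuzYZero.inv_y0⟩ c01.symm y1_not_mem
  intro h
  have h1 : centralizer ({y0} : Set Suz) = ⊤ := by
    rw [eq_top_iff]
    intro x _
    exact mem_centralizer_singleton_iff.2 (mem_center_iff.1 h x)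
  have h2 := H812.FullSuz.index_y0
  rw [h1, index_top] at h2
  norm_num at h2

theorem irow_suz {K : Type*} [Group K] [Finite K] [IsSimpleGroup K] (h : Cfsg.Spor.IsoSuz K) :
    Cfsg.Agent.H959.Rad3.IRow K := by
  have hin := BpSpor.Inn.suz h
  obtain ⟨e⟩ := h
  have hfin : Finite Spor.Suz := Nat.finite_of_card_ne_zero (by
    rw [Cfsg.Agent.SporadicRecognition.SuzOrder.card_Suz]; norm_num)
  have hs : IsSimpleGroup Spor.Suz := e.symm.isSimpleGroup
  refine IRow.congr e ?_
  have hin' : BpSpor.Inn.OddInn Suz := BpSpor.Inn.suz ⟨MulEquiv.refl _⟩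
  refine IRowInn.irow ?_ (fun x hx => hin' 3 Nat.prime_three (by norm_num) x hx) irowInn_suz
  refine center_eq_bot ?_
  by_contra hcon
  push Not at hcon
  have h1 : centralizer ({y0} : Set Suz) = ⊤ := by
    rw [eq_top_iff]
    intro x _
    exact mem_centralizer_singleton_iff.2 (hcon x y0)
  have h2 := H812.FullSuz.index_y0
  rw [h1, index_top] at h2
  norm_num at h2

end Suz

end Cfsg.Agent.H112.Rad3
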